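import Groth.Agent.ProjPt.Basic
import Groth.Prelude.Def_CohB1

/-!
# Points of projective space given by homogeneous coordinates
-/

universe u

open AlgebraicGeometry HomogeneousLocalization CategoryTheory CategoryTheory.Limits MvPolynomial

namespace Groth.Agent.ProjPt

lemma eval₂Hom_scale {ι R C : Type*} [CommRing R] [CommRing C] (c0 : R →+* C) (v v' : ι → C)
    (c : C) (hv : ∀ k, v' k = c * v k) {i : ℕ} {a : MvPolynomial ι R} (ha : a.IsHomogeneous i) :
    eval₂Hom c0 v' a = c ^ i * eval₂Hom c0 v a := by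
  rw [coe_eval₂Hom, coe_eval₂Hom, eval₂_eq, eval₂_eq, Finset.mul_sum]
  refine Finset.sum_congr rfl fun d hd ↦ ?_
  have hdeg : ∑ k ∈ d.support, d k = i := by
    have := ha (mem_support_iff.mp hd)
    rw [Finsupp.weight_apply, Finsupp.sum] at this
    simpa using this
  rw [← hdeg, ← Finset.prod_pow_eq_pow_sum, mul_left_comm, ← Finset.prod_mul_distrib]
  simp only [hv, mul_pow]

variable {n : ℕ} {R : Type u} [CommRing R]

lemma X_mem (k : Fin (n + 1)) : (X k : MvPolynomial (Fin (n + 1)) R) ∈ CohB1.polyGrading n R 1 :=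
  (mem_homogeneousSubmodule _ _).mpr (isHomogeneous_X R k)

/-- The coordinate `x_k / x_i`. -/
noncomputable def crd (i k : Fin (n + 1)) : Away (CohB1.polyGrading n R) (X i) :=
  Away.mk (CohB1.polyGrading n R) (X_mem i) 1 (X k) (by rw [one_smul]; exact X_mem k)

/-- The constants in the chart of `x_i`. -/
noncomputable def cst (i : Fin (n + 1)) : R →+* Away (CohB1.polyGrading n R) (X i) :=
  (fromZeroRingHom (CohB1.polyGrading n R) _).comp (algebraMap R (CohB1.polyGrading n R 0))

lemma crd_self (i : Fin (n + 1)) : crd (R := R) i i = 1 := by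
  apply val_injective
  rw [crd, Away.val_mk, val_one]
  simp only [pow_one]
  exact Localization.mk_self (⟨X i, Submonoid.mem_powers _⟩ : Submonoid.powers (X i : MvPolynomial _ R))

lemma mk_eq_eval (i : Fin (n + 1)) (m : ℕ) (a : MvPolynomial (Fin (n + 1)) R)
    (ha : a ∈ CohB1.polyGrading n R (m • 1)) :
    Away.mk (CohB1.polyGrading n R) (X_mem i) m a ha = eval₂Hom (cst i) (crd i) a := by
  let L := Localization.Away (X i : MvPolynomial (Fin (n + 1)) R)
  let al : MvPolynomial (Fin (n + 1)) R →+* L := algebraMap _ L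
  apply val_injective
  rw [← HomogeneousLocalization.algebraMap_apply (y := eval₂Hom (cst i) (crd i) a),
    map_eval₂Hom (cst i) (crd i) (algebraMap _ L) a]
  have hhom : a.IsHomogeneous m := by
    have := (mem_homogeneousSubmodule _ _).mp ha
    rwa [smul_eq_mul, mul_one] at this
  let inv : L := Localization.mk 1 ⟨X i, Submonoid.mem_powers _⟩
  have hc : (algebraMap (Away (CohB1.polyGrading n R) (X i)) L).comp (cst i) = al.comp MvPolynomial.C := by
    ext r
    change _ = algebraMap _ L (MvPolynomial.C (σ := Fin (n + 1)) r)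
    rw [← Localization.mk_one_eq_algebraMap]
    rfl
  rw [hc, eval₂Hom_scale (al.comp MvPolynomial.C) (fun k ↦ al (X k)) _ inv (fun k ↦ ?_) hhom]
  · rw [show eval₂Hom (al.comp MvPolynomial.C) (fun k ↦ al (X k)) = al from ?_]
    · rw [Away.val_mk, Localization.mk_pow]
      change _ = _ * algebraMap _ L a
      rw [← Localization.mk_one_eq_algebraMap, Localization.mk_mul, Localization.mk_eq_mk_iff,
        Localization.r_iff_exists]
      exact ⟨1, by simp⟩
    · exact (MvPolynomial.ringHom_ext (fun r ↦ by simp) (fun k ↦ by simp))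
  · change (crd i k).val = inv * algebraMap _ L (X k)
    rw [crd, Away.val_mk, ← Localization.mk_one_eq_algebraMap, Localization.mk_mul,
      Localization.mk_eq_mk_iff, Localization.r_iff_exists]
    exact ⟨1, by simp⟩

/-- A chart of projective space is given by its coordinates. -/
lemma eq_coordHom {C : Type u} [CommRing C] (i : Fin (n + 1))
    (u : Away (CohB1.polyGrading n R) (X i) →+* C)
    (hu : IsUnit (eval₂Hom (u.comp (cst i)) (fun k ↦ u (crd i k)) (X i))) :
    u = coordHom (CohB1.polyGrading n R) (eval₂Hom (u.comp (cst i)) (fun k ↦ u (crd i k))) hu := by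
  ext a
  obtain ⟨m, b, hb, rfl⟩ := Away.mk_surjective (CohB1.polyGrading n R) (X_mem i) a
  symm
  rw [coordHom_mk_eq_iff, eval₂Hom_X', crd_self, map_one, one_pow, mul_one, mk_eq_eval,
    map_eval₂Hom]

/-- Ring maps out of a chart are determined by constants and coordinates. -/
lemma away_ext {C : Type u} [CommRing C] (i : Fin (n + 1))
    (u u' : Away (CohB1.polyGrading n R) (X i) →+* C) (hc : u.comp (cst i) = u'.comp (cst i))
    (hk : ∀ k, u (crd i k) = u' (crd i k)) : u = u' := by
  ext a
  obtain ⟨m, b, hb, rfl⟩ := Away.mk_surjective (CohB1.polyGrading n R) (X_mem i) a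
  rw [mk_eq_eval, map_eval₂Hom, map_eval₂Hom, hc]
  simp only [hk]

lemma coordHom_crd {C : Type u} [CommRing C] (f : MvPolynomial (Fin (n + 1)) R →+* C)
    (i : Fin (n + 1)) (hu : IsUnit (f (X i))) (h1 : f (X i) = 1) (k : Fin (n + 1)) :
    coordHom (CohB1.polyGrading n R) f hu (crd i k) = f (X k) := by
  rw [crd, coordHom_mk_eq_iff, h1, one_pow, mul_one]

lemma coordHom_cst {C : Type u} [CommRing C] (f : MvPolynomial (Fin (n + 1)) R →+* C)
    (i : Fin (n + 1)) (hu : IsUnit (f (X i))) (r : R) :
    coordHom (CohB1.polyGrading n R) f hu (cst i r) = f (MvPolynomial.C r) := by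
  have h : cst i r = Away.mk (CohB1.polyGrading n R) (X_mem i) 0 (MvPolynomial.C r)
      (by rw [zero_smul]; exact (mem_homogeneousSubmodule _ _).mpr (isHomogeneous_C _ r)) := by
    apply val_injective
    rw [Away.val_mk]
    rfl
  rw [h, coordHom_mk_eq_iff, pow_zero, mul_one]

/-- Proportional coordinates give the same point of projective space. -/
lemma pt_scale_eval {W : Scheme.{u}} (c0 : R →+* Γ(W, ⊤)) (v v' : Fin (n + 1) → Γ(W, ⊤))
    (c : Γ(W, ⊤)) (hv : ∀ k, v' k = c * v k) (i j : Fin (n + 1))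
    (hi : IsUnit (eval₂Hom c0 v (X i))) (hj : IsUnit (eval₂Hom c0 v' (X j))) :
    pt (CohB1.polyGrading n R) (eval₂Hom c0 v') (X_mem j) one_pos hj =
      pt (CohB1.polyGrading n R) (eval₂Hom c0 v) (X_mem i) one_pos hi := by
  have hj' : IsUnit (eval₂Hom c0 v (X j)) := by
    rw [eval₂Hom_X'] at hj ⊢
    rw [hv] at hj
    exact (IsUnit.mul_iff.mp hj).2
  rw [pt_indep (CohB1.polyGrading n R) (eval₂Hom c0 v) (X_mem i) one_pos hi (X_mem j) one_pos hj']
  exact pt_scale _ _ _ _ one_pos c (fun d a ha ↦ eval₂Hom_scale c0 v v' c hv ha) hj' hj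

end Groth.Agent.ProjPt
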