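import Groth.Agent.ProjPt.Basic

/-!
# The comorphism of a point given by coordinates
-/

universe u

open SetLike AlgebraicGeometry HomogeneousLocalization CategoryTheory CategoryTheory.Limits

namespace Groth.Agent.ProjPt

variable {A σ : Type u} [CommRing A] [SetLike σ A] [AddSubgroupClass σ A]
variable (𝒜 : ℕ → σ) [GradedRing 𝒜]

lemma appLE_top_aux {X Y : Scheme.{u}} (U : X.Opens) (g : Y ⟶ U.toScheme) (V : U.toScheme.Opens)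
    (hV : V = ⊤) (h1 : U.ι ''ᵁ V ≤ U) (h2 : (⊤ : Y.Opens) ≤ g ⁻¹ᵁ V) (h3 : U.ι ''ᵁ ⊤ = U)
    (h4 : g ⁻¹ᵁ ⊤ ≤ g ⁻¹ᵁ ⊤) :
    X.presheaf.map (homOfLE h1).op ≫ g.appLE V ⊤ h2 =
      X.presheaf.map (eqToHom h3).op ≫ g.appLE ⊤ (g ⁻¹ᵁ ⊤) h4 := by
  subst hV
  rfl

lemma awayι_appLE {t : A} {d : ℕ} (ht : t ∈ 𝒜 d) (hd : 0 < d)
    (e : (⊤ : (Spec (CommRingCat.of (Away 𝒜 t))).Opens) ≤
      Proj.awayι 𝒜 t ht hd ⁻¹ᵁ Proj.basicOpen 𝒜 t) :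
    Proj.awayToSection 𝒜 t ≫ (Proj.awayι 𝒜 t ht hd).appLE (Proj.basicOpen 𝒜 t) ⊤ e =
      (Scheme.ΓSpecIso (CommRingCat.of (Away 𝒜 t))).inv := by
  have h := Proj.basicOpenToSpec_app_top 𝒜 t
  have hi : (Proj.basicOpenIsoSpec 𝒜 t ht hd).inv ≫ Proj.basicOpenToSpec 𝒜 t = 𝟙 _ := by
    rw [← Proj.basicOpenIsoSpec_hom 𝒜 t ht hd, Iso.inv_hom_id]
  have h2 := congrArg Scheme.Hom.appTop hi
  rw [Scheme.Hom.comp_appTop, Scheme.Hom.appTop, h, Scheme.Hom.id_appTop] at h2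
  simp only [Category.assoc] at h2
  rw [← Iso.eq_inv_comp, Category.comp_id] at h2
  rw [← h2]
  congr 1
  simp only [Proj.awayι, Scheme.Hom.comp_appLE, Scheme.Opens.ι_appLE, Scheme.Opens.topIso_inv,
    Scheme.Hom.map_appLE, Scheme.Hom.appTop, Scheme.Hom.app_eq_appLE]
  exact appLE_top_aux _ _ _ (Scheme.Opens.ι_preimage_self _) _ _ _ _

lemma pt_appLE {W : Scheme.{u}} (f : A →+* Γ(W, ⊤)) {t : A} {d : ℕ} (ht : t ∈ 𝒜 d) (hd : 0 < d)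
    (hu : IsUnit (f t)) (e : (⊤ : W.Opens) ≤ pt 𝒜 f ht hd hu ⁻¹ᵁ Proj.basicOpen 𝒜 t) (a : Away 𝒜 t) :
    (pt 𝒜 f ht hd hu).appLE (Proj.basicOpen 𝒜 t) ⊤ e ((Proj.awayToSection 𝒜 t).hom a) =
      coordHom 𝒜 f hu a := by
  let g := W.toSpecΓ ≫ Spec.map (CommRingCat.ofHom (coordHom 𝒜 f hu))
  have hpt : pt 𝒜 f ht hd hu = g ≫ Proj.awayι 𝒜 t ht hd := (Category.assoc _ _ _).symm
  have e1 : (⊤ : (Spec (CommRingCat.of (Away 𝒜 t))).Opens) ≤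
      Proj.awayι 𝒜 t ht hd ⁻¹ᵁ Proj.basicOpen 𝒜 t := by
    rw [← Proj.opensRange_awayι 𝒜 t ht hd, Scheme.Hom.preimage_opensRange]
  have key : (pt 𝒜 f ht hd hu).appLE (Proj.basicOpen 𝒜 t) ⊤ e =
      (Proj.awayι 𝒜 t ht hd).appLE (Proj.basicOpen 𝒜 t) ⊤ e1 ≫ g.appLE ⊤ ⊤ le_top := by
    rw [Scheme.Hom.appLE_comp_appLE]
    simp only [hpt]
  have h2 : Proj.awayToSection 𝒜 t ≫ (pt 𝒜 f ht hd hu).appLE (Proj.basicOpen 𝒜 t) ⊤ e =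
      CommRingCat.ofHom (coordHom 𝒜 f hu) := by
    rw [key, ← Category.assoc, awayι_appLE 𝒜 ht hd e1]
    have : g.appLE ⊤ ⊤ le_top = g.appTop := (g.app_eq_appLE (U := ⊤)).symm
    rw [this, Scheme.Hom.comp_appTop, Scheme.toSpecΓ_appTop, Scheme.ΓSpecIso_naturality,
      Iso.inv_hom_id_assoc]
  exact ConcreteCategory.congr_hom h2 a

lemma pt_toSpecZero {W : Scheme.{u}} (f : A →+* Γ(W, ⊤)) {t : A} {d : ℕ} (ht : t ∈ 𝒜 d) (hd : 0 < d)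
    (hu : IsUnit (f t)) :
    pt 𝒜 f ht hd hu ≫ Proj.toSpecZero 𝒜 =
      W.toSpecΓ ≫ Spec.map (CommRingCat.ofHom (f.comp (algebraMap (𝒜 0) A))) := by
  rw [pt, Category.assoc, Category.assoc, Proj.awayι_toSpecZero, ← Spec.map_comp,
    ← CommRingCat.ofHom_comp]
  congr 3
  ext a
  have ha : (a : A) ∈ 𝒜 (0 • d) := by rw [zero_smul]; exact a.2
  have h : fromZeroRingHom 𝒜 (Submonoid.powers t) a = Away.mk 𝒜 ht 0 (a : A) ha := by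
    apply val_injective
    rw [Away.val_mk]
    simp [fromZeroRingHom]
  rw [RingHom.comp_apply, h, coordHom_mk_eq_iff, pow_zero, mul_one]
  rfl

end Groth.Agent.ProjPt
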