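import Mathlib.AlgebraicGeometry.ProjectiveSpectrum.Basic
import Mathlib.AlgebraicGeometry.GammaSpecAdjunction

/-!
# Morphisms into `Proj` given by homogeneous coordinates
-/

universe u

open SetLike AlgebraicGeometry HomogeneousLocalization CategoryTheory CategoryTheory.Limits

namespace Groth.Agent.ProjPt

variable {A σ : Type u} [CommRing A] [SetLike σ A] [AddSubgroupClass σ A]
variable (𝒜 : ℕ → σ) [GradedRing 𝒜]
variable {C : Type u} [CommRing C]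

/-- The map on the degree zero part of the localisation at `t` induced by a ring map inverting `t`. -/
noncomputable def coordHom (f : A →+* C) {t : A} (hu : IsUnit (f t)) : Away 𝒜 t →+* C :=
  (IsLocalization.Away.lift (S := Localization.Away t) t hu).comp
    (algebraMap (Away 𝒜 t) (Localization.Away t))

lemma coordHom_mk_mul (f : A →+* C) {t : A} (hu : IsUnit (f t)) {d : ℕ} (ht : t ∈ 𝒜 d) (n : ℕ)
    (a : A) (ha : a ∈ 𝒜 (n • d)) :
    coordHom 𝒜 f hu (Away.mk 𝒜 ht n a ha) * f t ^ n = f a := by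
  have h : (Away.mk 𝒜 ht n a ha).val * algebraMap A (Localization.Away t) (t ^ n) =
      algebraMap A (Localization.Away t) a := by
    rw [Away.val_mk, Localization.mk_eq_mk']
    exact IsLocalization.mk'_spec _ a _
  have := congrArg (IsLocalization.Away.lift (S := Localization.Away t) t hu) h
  rw [map_mul, IsLocalization.Away.lift_eq, IsLocalization.Away.lift_eq, map_pow] at this
  exact this

lemma coordHom_mk_eq_iff (f : A →+* C) {t : A} (hu : IsUnit (f t)) {d : ℕ} (ht : t ∈ 𝒜 d) (n : ℕ)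
    (a : A) (ha : a ∈ 𝒜 (n • d)) (c : C) :
    coordHom 𝒜 f hu (Away.mk 𝒜 ht n a ha) = c ↔ c * f t ^ n = f a := by
  refine ⟨fun h ↦ h ▸ coordHom_mk_mul 𝒜 f hu ht n a ha, fun h ↦ ?_⟩
  exact (hu.pow n).mul_left_injective ((coordHom_mk_mul 𝒜 f hu ht n a ha).trans h.symm)

/-- Composition with a ring map. -/
lemma comp_coordHom {C' : Type u} [CommRing C'] (g : C →+* C') (f : A →+* C) {t : A}
    (hu : IsUnit (f t)) :
    g.comp (coordHom 𝒜 f hu) = coordHom 𝒜 (g.comp f) (t := t) (hu.map g) := by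
  rw [coordHom, coordHom, ← RingHom.comp_assoc]
  congr 1
  apply IsLocalization.ringHom_ext (M := Submonoid.powers t)
  ext a
  simp

lemma coordHom_awayMap (f : A →+* C) {t g x : A} {d e : ℕ} (ht : t ∈ 𝒜 d) (hg : g ∈ 𝒜 e)
    (hx : x = t * g) (hu : IsUnit (f t)) (hux : IsUnit (f x)) :
    (coordHom 𝒜 f hux).comp (awayMap 𝒜 hg hx) = coordHom 𝒜 f hu := by
  have hgu : IsUnit (f x) := hux
  ext a
  obtain ⟨n, b, hb, rfl⟩ := Away.mk_surjective 𝒜 ht a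
  have hxm : x ∈ 𝒜 (d + e) := hx ▸ SetLike.mul_mem_graded ht hg
  have hm : b * g ^ n ∈ 𝒜 (n • (d + e)) := by
    rw [nsmul_add]
    exact SetLike.mul_mem_graded hb (SetLike.pow_mem_graded n hg)
  have : awayMap 𝒜 hg hx (Away.mk 𝒜 ht n b hb) = Away.mk 𝒜 hxm n (b * g ^ n) hm := by
    apply val_injective
    rw [Away.val_mk]
    exact val_awayMap_mk ..
  rw [RingHom.comp_apply, this, coordHom_mk_eq_iff, map_mul, ← coordHom_mk_mul 𝒜 f hu ht n b hb,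
    hx, map_mul, map_pow, mul_pow, mul_assoc]

/-- Rescaling the coordinates does not change the map. -/
lemma coordHom_scale (f f' : A →+* C) {t : A} {d : ℕ} (ht : t ∈ 𝒜 d) (c : C)
    (h : ∀ (i : ℕ) (a : A), a ∈ 𝒜 i → f' a = c ^ i * f a) (hu : IsUnit (f t))
    (hu' : IsUnit (f' t)) :
    coordHom 𝒜 f' hu' = coordHom 𝒜 f hu := by
  ext a
  obtain ⟨n, b, hb, rfl⟩ := Away.mk_surjective 𝒜 ht a
  rw [coordHom_mk_eq_iff, h _ b hb, h _ t ht, mul_pow, ← pow_mul, smul_eq_mul, mul_comm n d,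
    ← coordHom_mk_mul 𝒜 f hu ht n b hb]
  ring

variable {W W' : Scheme.{u}}

/-- The point of `Proj 𝒜` with homogeneous coordinates `f`, in the chart of `t`. -/
noncomputable def pt (f : A →+* Γ(W, ⊤)) {t : A} {d : ℕ} (ht : t ∈ 𝒜 d) (hd : 0 < d)
    (hu : IsUnit (f t)) : W ⟶ Proj 𝒜 :=
  W.toSpecΓ ≫ Spec.map (CommRingCat.ofHom (coordHom 𝒜 f hu)) ≫ Proj.awayι 𝒜 t ht hd

lemma comp_pt (g : W' ⟶ W) (f : A →+* Γ(W, ⊤)) {t : A} {d : ℕ} (ht : t ∈ 𝒜 d) (hd : 0 < d)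
    (hu : IsUnit (f t)) :
    g ≫ pt 𝒜 f ht hd hu = pt 𝒜 (g.appTop.hom.comp f) ht hd (hu.map g.appTop.hom) := by
  rw [pt, pt, Scheme.toSpecΓ_naturality_assoc, ← Spec.map_comp_assoc, ← CommRingCat.ofHom_hom g.appTop,
    ← CommRingCat.ofHom_comp, comp_coordHom]

lemma pt_congr (f f' : A →+* Γ(W, ⊤)) (h : f = f') {t : A} {d : ℕ} (ht : t ∈ 𝒜 d) (hd : 0 < d)
    (hu : IsUnit (f t)) (hu' : IsUnit (f' t)) : pt 𝒜 f ht hd hu = pt 𝒜 f' ht hd hu' := by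
  subst h; rfl

lemma pt_mul (f : A →+* Γ(W, ⊤)) {t g x : A} {d e : ℕ} (ht : t ∈ 𝒜 d) (hd : 0 < d) (hg : g ∈ 𝒜 e)
    (hx : x = t * g) (hu : IsUnit (f t)) (hux : IsUnit (f x)) (i : ℕ) (hi : i = d + e)
    (hxm : x ∈ 𝒜 i) :
    pt 𝒜 f hxm (hi ▸ Nat.add_pos_left hd e) hux = pt 𝒜 f ht hd hu := by
  subst hi
  rw [pt, pt, ← Proj.SpecMap_awayMap_awayι 𝒜 ht hd hg hx, ← Spec.map_comp_assoc,
    ← CommRingCat.ofHom_comp, coordHom_awayMap 𝒜 f ht hg hx hu hux]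

/-- The point does not depend on the chart. -/
lemma pt_indep (f : A →+* Γ(W, ⊤)) {t t' : A} {d d' : ℕ} (ht : t ∈ 𝒜 d) (hd : 0 < d)
    (hu : IsUnit (f t)) (ht' : t' ∈ 𝒜 d') (hd' : 0 < d') (hu' : IsUnit (f t')) :
    pt 𝒜 f ht hd hu = pt 𝒜 f ht' hd' hu' := by
  have hux : IsUnit (f (t * t')) := by rw [map_mul]; exact hu.mul hu'
  have hm : t * t' ∈ 𝒜 (d + d') := SetLike.mul_mem_graded ht ht'
  rw [← pt_mul 𝒜 f ht hd ht' rfl hu hux (d + d') rfl hm,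
    ← pt_mul 𝒜 f ht' hd' ht (mul_comm t t') hu' hux (d + d') (add_comm d d') hm]

lemma pt_scale (f f' : A →+* Γ(W, ⊤)) {t : A} {d : ℕ} (ht : t ∈ 𝒜 d) (hd : 0 < d) (c : Γ(W, ⊤))
    (h : ∀ (i : ℕ) (a : A), a ∈ 𝒜 i → f' a = c ^ i * f a) (hu : IsUnit (f t))
    (hu' : IsUnit (f' t)) : pt 𝒜 f' ht hd hu' = pt 𝒜 f ht hd hu := by
  rw [pt, pt, coordHom_scale 𝒜 f f' ht c h hu hu']

/-- Two charts of degree one giving the same point have proportional coordinates. -/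
lemma exists_unit_of_agree {t t' : A} (ht : t ∈ 𝒜 1) (ht' : t' ∈ 𝒜 1)
    (p : W ⟶ Spec (CommRingCat.of (Away 𝒜 t))) (q : W ⟶ Spec (CommRingCat.of (Away 𝒜 t')))
    (h : p ≫ Proj.awayι 𝒜 t ht one_pos = q ≫ Proj.awayι 𝒜 t' ht' one_pos)
    (u : Away 𝒜 t →+* Γ(W, ⊤)) (v : Away 𝒜 t' →+* Γ(W, ⊤))
    (hu : p = W.toSpecΓ ≫ Spec.map (CommRingCat.ofHom u))
    (hv : q = W.toSpecΓ ≫ Spec.map (CommRingCat.ofHom v)) :
    ∃ c : Γ(W, ⊤), IsUnit c ∧ ∀ (a : A) (ha : a ∈ 𝒜 1),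
      v (Away.mk 𝒜 ht' 1 a (by rwa [one_smul])) = c * u (Away.mk 𝒜 ht 1 a (by rwa [one_smul])) := by
  let r : W ⟶ Spec (CommRingCat.of (Away 𝒜 (t * t'))) :=
    pullback.lift p q h ≫ (Proj.pullbackAwayιIso 𝒜 ht one_pos ht' one_pos rfl).hom
  let w : Away 𝒜 (t * t') →+* Γ(W, ⊤) :=
    ((Scheme.ΓSpecIso (CommRingCat.of (Away 𝒜 (t * t')))).inv ≫ r.appTop).hom
  have hr : r = W.toSpecΓ ≫ Spec.map (CommRingCat.ofHom w) := by
    rw [show CommRingCat.ofHom w = (Scheme.ΓSpecIso _).inv ≫ r.appTop from rfl, Spec.map_comp,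
      ← Scheme.toSpecΓ_naturality_assoc, toSpecΓ_SpecMap_ΓSpecIso_inv, Category.comp_id]
  have key : ∀ {R : CommRingCat.{u}} (a b : R ⟶ Γ(W, ⊤)),
      W.toSpecΓ ≫ Spec.map a = W.toSpecΓ ≫ Spec.map b → a = b := by
    intro R a b e
    have := congrArg (fun k : W ⟶ Spec R ↦ (Scheme.ΓSpecIso R).inv ≫ k.appTop) e
    simpa [Scheme.toSpecΓ_appTop] using this
  have hu' : u = w.comp (awayMap 𝒜 ht' rfl) := by
    refine congrArg CommRingCat.Hom.hom (key (CommRingCat.ofHom u)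
      (CommRingCat.ofHom (awayMap 𝒜 ht' rfl) ≫ CommRingCat.ofHom w) ?_)
    rw [← hu, Spec.map_comp, ← Category.assoc, ← hr, Category.assoc,
      Proj.pullbackAwayιIso_hom_SpecMap_awayMap_left, pullback.lift_fst]
  have hv' : v = w.comp (awayMap 𝒜 ht (mul_comm t t')) := by
    refine congrArg CommRingCat.Hom.hom (key (CommRingCat.ofHom v)
      (CommRingCat.ofHom (awayMap 𝒜 ht (mul_comm t t')) ≫ CommRingCat.ofHom w) ?_)
    rw [← hv, Spec.map_comp, ← Category.assoc, ← hr, Category.assoc,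
      Proj.pullbackAwayιIso_hom_SpecMap_awayMap_right, pullback.lift_snd]
  have hx : t * t' ∈ 𝒜 2 := SetLike.mul_mem_graded ht ht'
  have hmul : ∀ {a b : A}, a ∈ 𝒜 1 → b ∈ 𝒜 1 → a * b ∈ 𝒜 (1 • 2) := fun ha hb ↦ by
    rw [one_smul]; exact SetLike.mul_mem_graded ha hb
  let m : Away 𝒜 (t * t') := Away.mk 𝒜 hx 1 (t * t) (hmul ht ht)
  let m' : Away 𝒜 (t * t') := Away.mk 𝒜 hx 1 (t' * t') (hmul ht' ht')
  have hmm : m * m' = 1 := by
    apply val_injective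
    rw [val_mul, val_one, Away.val_mk, Away.val_mk, Localization.mk_mul, ← Localization.mk_one,
      Localization.mk_eq_mk_iff, Localization.r_iff_exists]
    exact ⟨1, by simp; ring⟩
  refine ⟨w m, .of_mul_eq_one (w m') (by rw [← map_mul, hmm, map_one]), fun a ha ↦ ?_⟩
  rw [hu', hv', RingHom.comp_apply, RingHom.comp_apply, ← map_mul]
  congr 1
  apply val_injective
  rw [val_mul, Away.val_mk]
  erw [val_awayMap_mk, val_awayMap_mk]
  rw [Localization.mk_mul, Localization.mk_eq_mk_iff, Localization.r_iff_exists]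
  exact ⟨1, by simp; ring⟩

end Groth.Agent.ProjPt

namespace Groth.Agent.ProjPt

open AlgebraicGeometry CategoryTheory

lemma eq_toSpecΓ {W : Scheme.{u}} {R : CommRingCat.{u}} (q : W ⟶ Spec R) :
    q = W.toSpecΓ ≫ Spec.map ((Scheme.ΓSpecIso R).inv ≫ q.appTop) := by
  rw [Spec.map_comp, ← Scheme.toSpecΓ_naturality_assoc, toSpecΓ_SpecMap_ΓSpecIso_inv,
    Category.comp_id]

variable {A σ : Type u} [CommRing A] [SetLike σ A] [AddSubgroupClass σ A]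
variable (𝒜 : ℕ → σ) [GradedRing 𝒜]

open HomogeneousLocalization in
lemma pt_preimage_basicOpen {W : Scheme.{u}} (f : A →+* Γ(W, ⊤)) {t : A} {d : ℕ} (ht : t ∈ 𝒜 d)
    (hd : 0 < d) (hu : IsUnit (f t)) {g : A} {e : ℕ} (hg : g ∈ 𝒜 e) (he : 0 < e) :
    pt 𝒜 f ht hd hu ⁻¹ᵁ Proj.basicOpen 𝒜 g = W.basicOpen (f g) := by
  rw [pt, Scheme.Hom.comp_preimage, Scheme.Hom.comp_preimage,
    Proj.awayι_preimage_basicOpen 𝒜 ht hd hg he]
  change W.toSpecΓ ⁻¹ᵁ (PrimeSpectrum.basicOpen (coordHom 𝒜 f hu (Away.isLocalizationElem ht hg))) = _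
  rw [Scheme.toSpecΓ_preimage_basicOpen]
  obtain ⟨w, hw⟩ := hu
  have h : coordHom 𝒜 f (t := t) ⟨w, hw⟩ (Away.isLocalizationElem ht hg) = f g ^ d * ((w⁻¹ ^ e : Γ(W, ⊤)ˣ) : Γ(W, ⊤)) := by
    rw [coordHom_mk_eq_iff, map_pow, ← hw]
    simp [mul_assoc, ← mul_pow]
  rw [h, Scheme.basicOpen_mul, Scheme.basicOpen_pow _ (f := f g) hd,
    W.basicOpen_of_isUnit (Units.isUnit _)]
  exact inf_eq_left.mpr le_top

end Groth.Agent.ProjPt
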